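import Mathlib

/-!
# Pointwise right derived functors from resolutions and a calculus of left fractions
-/

set_option autoImplicit false
set_option backward.isDefEq.respectTransparency false
set_option linter.style.haveILetI false

universe v₁ v₂ v₃ u₁ u₂ u₃

open CategoryTheory CategoryTheory.Limits

namespace Groth.Agent.AcycResLib

variable {C : Type u₁} [Category.{v₁} C] {D : Type u₂} [Category.{v₂} D] {H : Type u₃}
  [Category.{v₃} H] (W : MorphismProperty C) [W.HasLeftCalculusOfFractions]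
  (L : C ⥤ D) [L.IsLocalization W] (F : C ⥤ H) (P : C → Prop)
  (hres : ∀ X : C, ∃ (I : C) (s : X ⟶ I), P I ∧ W s)
  (hinv : ∀ ⦃I I' : C⦄ (s : I ⟶ I'), P I → P I' → W s → IsIso (F.map s))
  {X I : C} (s : X ⟶ I) (hI : P I) (hs : W s)

/-- `m` is the value of `F` on a fraction representing `φ ≫ L s`. -/
def IsVal (j : CostructuredArrow L (L.obj X)) (m : F.obj j.left ⟶ F.obj I) : Prop :=
  ∃ (I' : C) (g : j.left ⟶ I') (t : I ⟶ I'), P I' ∧ W t ∧
    L.map g = (j.hom ≫ L.map s) ≫ L.map t ∧ F.map g = m ≫ F.map t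

include hres hinv hI hs

theorem exists_isVal (j : CostructuredArrow L (L.obj X)) : ∃ m, IsVal W L F P s j m := by
  obtain ⟨φ, hφ⟩ := Localization.exists_leftFraction L W (j.hom ≫ L.map s)
  obtain ⟨I', r, hI', hr⟩ := hres φ.Y'
  have ht : W (φ.s ≫ r) := W.comp_mem _ _ φ.hs hr
  haveI := hinv _ hI hI' ht
  refine ⟨F.map (φ.f ≫ r) ≫ inv (F.map (φ.s ≫ r)), I', φ.f ≫ r, φ.s ≫ r, hI', ht, ?_, by simp⟩
  rw [hφ, L.map_comp, L.map_comp, ← Category.assoc _ (L.map φ.s), MorphismProperty.LeftFraction.map_comp_map_s]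

theorem isVal_unique (j : CostructuredArrow L (L.obj X)) {m₁ m₂ : F.obj j.left ⟶ F.obj I}
    (h₁ : IsVal W L F P s j m₁) (h₂ : IsVal W L F P s j m₂) : m₁ = m₂ := by
  obtain ⟨I₁, g₁, t₁, hI₁, ht₁, e₁, f₁⟩ := h₁
  obtain ⟨I₂, g₂, t₂, hI₂, ht₂, e₂, f₂⟩ := h₂
  obtain ⟨ψ, hψ⟩ := (MorphismProperty.RightFraction.mk t₁ ht₁ t₂).exists_leftFraction
  change t₂ ≫ ψ.s = t₁ ≫ ψ.f at hψ
  obtain ⟨Z, u, hu, he⟩ := (MorphismProperty.map_eq_iff_postcomp L W (g₁ ≫ ψ.f) (g₂ ≫ ψ.s)).1 (by
    rw [L.map_comp, L.map_comp, e₁, e₂]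
    simp only [Category.assoc]
    rw [← L.map_comp t₁, ← hψ, L.map_comp])
  obtain ⟨I₄, r, hI₄, hr⟩ := hres Z
  let a := ψ.f ≫ u ≫ r
  let b := ψ.s ≫ u ≫ r
  have hb : W b := W.comp_mem _ _ ψ.hs (W.comp_mem _ _ hu hr)
  have hab : t₁ ≫ a = t₂ ≫ b := by simp only [a, b, reassoc_of% hψ]
  haveI := hinv (t₂ ≫ b) hI hI₄ (W.comp_mem _ _ ht₂ hb)
  haveI : IsIso (F.map (t₁ ≫ a)) := by rw [hab]; infer_instance
  have hg : g₁ ≫ a = g₂ ≫ b := by
    simpa only [a, b, Category.assoc] using he =≫ r
  rw [← cancel_mono (F.map (t₁ ≫ a))]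
  calc m₁ ≫ F.map (t₁ ≫ a) = (m₁ ≫ F.map t₁) ≫ F.map a := by simp only [F.map_comp, Category.assoc]
    _ = F.map (g₁ ≫ a) := (congrArg (· ≫ F.map a) f₁.symm).trans (F.map_comp g₁ a).symm
    _ = F.map (g₂ ≫ b) := by rw [hg]
    _ = (m₂ ≫ F.map t₂) ≫ F.map b := (F.map_comp g₂ b).trans (congrArg (· ≫ F.map b) f₂)
    _ = m₂ ≫ F.map (t₁ ≫ a) := by
      rw [hab, Category.assoc, ← F.map_comp]

/-- The cocone with point `F I`. -/
noncomputable def resCocone : Cocone (CostructuredArrow.proj L (L.obj X) ⋙ F) where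
  pt := F.obj I
  ι :=
    { app := fun j => (exists_isVal W L F P hres hinv s hI hs j).choose
      naturality := fun j j' h => by
        refine Eq.trans ?_ (Category.comp_id _).symm
        refine isVal_unique W L F P hres hinv s hI hs j ?_
          (exists_isVal W L F P hres hinv s hI hs j).choose_spec
        obtain ⟨I', g, t, hI', ht, e, f⟩ := (exists_isVal W L F P hres hinv s hI hs j').choose_spec
        refine ⟨I', h.left ≫ g, t, hI', ht, ?_, ?_⟩
        · rw [L.map_comp, e, ← CostructuredArrow.w h]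
          simp only [Category.assoc]
        · rw [F.map_comp, f, ← Category.assoc]
          rfl }

/-- The distinguished index. -/
noncomputable def resIndex : CostructuredArrow L (L.obj X) :=
  haveI := Localization.inverts L W s hs
  CostructuredArrow.mk (inv (L.map s))

theorem resCocone_ι_resIndex :
    (resCocone W L F P hres hinv s hI hs).ι.app (resIndex W L s hs) = 𝟙 (F.obj I) := by
  haveI := Localization.inverts L W s hs
  refine isVal_unique W L F P hres hinv s hI hs _
    (exists_isVal W L F P hres hinv s hI hs _).choose_spec ⟨I, 𝟙 I, 𝟙 I, hI, W.id_mem I, ?_, ?_⟩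
  · simp [resIndex]
  · exact (Category.id_comp _).symm

/-- The cocone is a colimit. -/
noncomputable def isColimitResCocone : IsColimit (resCocone W L F P hres hinv s hI hs) where
  desc c := c.ι.app (resIndex W L s hs)
  fac c j := by
    haveI := Localization.inverts L W s hs
    obtain ⟨I', g, t, hI', ht, e, f⟩ := (exists_isVal W L F P hres hinv s hI hs j).choose_spec
    haveI := Localization.inverts L W t ht
    let k : CostructuredArrow L (L.obj X) := CostructuredArrow.mk (inv (L.map t) ≫ inv (L.map s))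
    let a : j ⟶ k := CostructuredArrow.homMk g (by
      change L.map g ≫ inv (L.map t) ≫ inv (L.map s) = j.hom
      rw [e]
      simp)
    let b : resIndex W L s hs ⟶ k := CostructuredArrow.homMk t (by
      change L.map t ≫ inv (L.map t) ≫ inv (L.map s) = inv (L.map s)
      simp)
    have wa : F.map g ≫ c.ι.app k = c.ι.app j := c.w a
    have wb : F.map t ≫ c.ι.app k = c.ι.app (resIndex W L s hs) := c.w b
    rw [← wb, ← wa, ← Category.assoc]
    exact congrArg (· ≫ c.ι.app k) f.symm
  uniq c m hm := by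
    have h := hm (resIndex W L s hs)
    rw [resCocone_ι_resIndex] at h
    exact (Category.id_comp m).symm.trans h

theorem hasPointwiseRightDerivedFunctorAt : F.HasPointwiseRightDerivedFunctorAt W X := by
  rw [F.hasPointwiseRightDerivedFunctorAt_iff W.Q W X]
  exact ⟨⟨⟨_, isColimitResCocone W W.Q F P hres hinv s hI hs⟩⟩⟩

omit s hI hs in
theorem hasPointwiseRightDerivedFunctor : F.HasPointwiseRightDerivedFunctor W := fun X => by
  obtain ⟨I, s, hI, hs⟩ := hres X
  exact hasPointwiseRightDerivedFunctorAt W F P hres hinv s hI hs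

omit s hs in
theorem isIso_totalRightDerivedUnit_app [F.HasRightDerivedFunctor W] :
    IsIso ((F.totalRightDerivedUnit L W).app I) := by
  haveI := hasPointwiseRightDerivedFunctor W F P hres hinv
  have hc := (Functor.isPointwiseLeftKanExtensionOfHasPointwiseRightDerivedFunctor
    (F' := F.totalRightDerived L W) (α := F.totalRightDerivedUnit L W) W) (L.obj I)
  have hc' := isColimitResCocone W L F P hres hinv (𝟙 I) hI (W.id_mem I)
  let k := resIndex W L (𝟙 I) (W.id_mem I)
  have h := hc'.comp_coconePointUniqueUpToIso_hom hc k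
  rw [resCocone_ι_resIndex] at h
  replace h := (Category.id_comp _).symm.trans h
  haveI : IsIso (((Functor.LeftExtension.mk _ (F.totalRightDerivedUnit L W)).coconeAt (L.obj I)).ι.app k) := by
    rw [← h]
    exact Iso.isIso_hom _
  have h' : IsIso ((F.totalRightDerivedUnit L W).app I ≫ (F.totalRightDerived L W).map k.hom) :=
    ‹IsIso (((Functor.LeftExtension.mk _ (F.totalRightDerivedUnit L W)).coconeAt (L.obj I)).ι.app k)›
  haveI : IsIso k.hom := by
    dsimp [k, resIndex]
    infer_instance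
  exact (isIso_comp_right_iff _ _).1 h'

end Groth.Agent.AcycResLib
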