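import Mathlib

/-!
# Unbounded complexes map quasi-isomorphically to complexes with terms in a class of finite dimension
-/

set_option autoImplicit false
set_option backward.isDefEq.respectTransparency false
set_option backward.isDefEq.respectTransparency.types false
set_option linter.style.haveILetI false
set_option linter.unusedSectionVars false

universe v u

open CategoryTheory CategoryTheory.Limits HomologicalComplex

namespace Groth.Agent.AcycResLib

variable {A : Type u} [Category.{v} A] [Abelian A] {P : ObjectProperty A}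

section Class

variable (h1 : ∀ X : A, ∃ (Y : A) (i : X ⟶ Y), P Y ∧ Mono i)
  (h2 : ∀ S : ShortComplex A, S.ShortExact → P S.X₁ → (P S.X₂ ↔ P S.X₃))

include h1 h2

theorem prop_isZero {Z : A} (hZ : IsZero Z) : P Z := by
  obtain ⟨Y, -, hY, -⟩ := h1 Z
  have hS : (ShortComplex.mk (𝟙 Y) (0 : Y ⟶ Z) comp_zero).ShortExact :=
    { exact := ShortComplex.exact_of_f_is_kernel _ (KernelFork.IsLimit.ofId _ rfl)
      epi_g := ⟨fun _ _ _ => hZ.eq_of_src _ _⟩ }
  exact (h2 _ hS hY).1 hY

theorem prop_of_iso {X Y : A} (e : X ≅ Y) (hX : P X) : P Y := by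
  obtain ⟨Z, hZ⟩ := HasZeroObject.zero (C := A)
  have hS : (ShortComplex.mk e.hom (0 : Y ⟶ Z) comp_zero).ShortExact :=
    { exact := by
        rw [ShortComplex.exact_iff_exact_up_to_refinements]
        intro T t _
        exact ⟨T, 𝟙 T, inferInstance, t ≫ e.inv, by simp⟩
      mono_f := (inferInstance : Mono e.hom)
      epi_g := ⟨fun _ _ _ => hZ.eq_of_src _ _⟩ }
  exact (h2 _ hS hX).2 (prop_isZero h1 h2 hZ)

theorem prop_biprod {X Y : A} (hX : P X) (hY : P Y) : P (X ⊞ Y) :=
  (h2 _ (ShortComplex.Splitting.ofHasBinaryBiproduct X Y).shortExact hX).2 hY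

end Class

section Cocone

variable {K L : CochainComplex A ℤ} (φ : K ⟶ L)

/-- The terms of the mapping cocone. -/
noncomputable def coconeXIso (p q : ℤ) (h : p + -1 = q) :
    (CochainComplex.mappingCocone φ).X p ≅ K.X p ⊞ L.X q where
  hom := biprod.lift ((CochainComplex.mappingCocone.fst φ).f p)
    ((CochainComplex.mappingCocone.snd φ).v p q h)
  inv := biprod.desc ((CochainComplex.mappingCocone.inl φ).v p p (add_zero p))
    ((CochainComplex.mappingCocone.inr φ).1.v q p (by lia))
  hom_inv_id := by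
    rw [biprod.lift_desc]
    exact CochainComplex.mappingCocone.id_X φ p q h
  inv_hom_id := by
    apply biprod.hom_ext' <;> apply biprod.hom_ext <;> simp

theorem cocone_hom_ext {T : A} {p : ℤ} {a b : T ⟶ (CochainComplex.mappingCocone φ).X p}
    (h₁ : a ≫ (CochainComplex.mappingCocone.fst φ).f p = b ≫ (CochainComplex.mappingCocone.fst φ).f p)
    (h₂ : a ≫ (CochainComplex.mappingCocone.snd φ).v p (p + -1) rfl =
      b ≫ (CochainComplex.mappingCocone.snd φ).v p (p + -1) rfl) : a = b := by
  rw [← cancel_mono (coconeXIso φ p (p + -1) rfl).hom]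
  apply biprod.hom_ext <;> simpa [coconeXIso]

theorem acyclic_cocone [QuasiIso φ] : (CochainComplex.mappingCocone φ).Acyclic := by
  have hcone : (CochainComplex.mappingCone φ).Acyclic := by
    rw [← HomotopyCategory.quotient_obj_mem_subcategoryAcyclic_iff_acyclic]
    refine ((HomotopyCategory.subcategoryAcyclic A).trW_iff_of_distinguished _
      (HomotopyCategory.mappingCone_triangleh_distinguished φ)).1 ?_
    rw [← HomotopyCategory.quasiIso_eq_trW_subcategoryAcyclic]
    exact (HomotopyCategory.quotient_map_mem_quasiIso_iff φ).2 (by simpa using (inferInstance : QuasiIso φ))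
  intro n
  rw [exactAt_iff_isZero_homology]
  refine IsZero.of_iso ((exactAt_iff_isZero_homology _ _).1 (hcone (n + -1))) ?_
  exact ((HomologicalComplex.homologyFunctor A (ComplexShape.up ℤ) 0).shiftIso (-1) n (n + -1)
    (by lia)).app (CochainComplex.mappingCone φ)

open CochainComplex CochainComplex.HomComplex in
theorem δ_snd_add : δ (-1) 0 (mappingCocone.snd φ) + Cochain.ofHom (mappingCocone.fst φ ≫ φ) = 0 := by
  ext p
  dsimp [mappingCocone.snd, mappingCocone.fst, mappingCocone]
  rw [Cochain.δ_leftShift (mappingCone.snd φ) (-1) (-1) 0 (zero_add _) 1 (by lia), mappingCone.δ_snd]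
  simp [Cochain.leftShift_v (n := 1) _ (-1) 0 _ p p _ (p + -1) (by lia),
    Cochain.comp_v _ _ (add_zero 1) (p + -1) p p (by lia) (by lia)]

end Cocone

/-- One step: a short exact sequence and a quasi-isomorphism out of the quotient. -/
theorem exists_quasiIso_of_shortExact (hiso : ∀ {X Y : A}, (X ≅ Y) → P X → P Y)
    (hsum : ∀ {X Y : A}, P X → P Y → P (X ⊞ Y))
    {T : ShortComplex (CochainComplex A ℤ)} (hT : T.ShortExact) (hY : ∀ m, P (T.X₂.X m))
    {Z' : CochainComplex A ℤ} (q : T.X₃ ⟶ Z') [QuasiIso q] (hZ' : ∀ m, P (Z'.X m)) :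
    ∃ (I : CochainComplex A ℤ) (f : T.X₁ ⟶ I), QuasiIso f ∧ ∀ k, P (I.X k) := by
  open CochainComplex in
  let l : T.X₁ ⟶ mappingCocone (T.g ≫ q) := mappingCocone.lift (T.g ≫ q) T.f 0
    (by rw [← Category.assoc, T.zero, zero_comp]; simp)
  let r : CochainComplex.mappingCocone (T.g ≫ q) ⟶ CochainComplex.mappingCocone q :=
    CochainComplex.mappingCocone.lift q (CochainComplex.mappingCocone.fst (T.g ≫ q) ≫ T.g)
      (CochainComplex.mappingCocone.snd (T.g ≫ q)) (by
        rw [Category.assoc]
        exact δ_snd_add (T.g ≫ q))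
  have hlr : l ≫ r = 0 := by
    ext p
    refine cocone_hom_ext q ?_ ?_
    · simp [l, r, ← comp_f, T.zero]
    · simp [l, r]
  let S : ShortComplex (CochainComplex A ℤ) := ShortComplex.mk l r hlr
  have hS : S.ShortExact := by
    refine shortExact_of_degreewise_shortExact S fun p => ?_
    haveI := (hT.map_of_exact (HomologicalComplex.eval A (ComplexShape.up ℤ) p)).mono_f
    have hex := (hT.map_of_exact (HomologicalComplex.eval A (ComplexShape.up ℤ) p)).exact
    have hepi := (hT.map_of_exact (HomologicalComplex.eval A (ComplexShape.up ℤ) p)).epi_g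
    refine { exact := ?_, mono_f := ?_, epi_g := ?_ }
    · rw [ShortComplex.exact_iff_exact_up_to_refinements]
      intro U x hx
      have h₁ : x ≫ (CochainComplex.mappingCocone.fst (T.g ≫ q)).f p ≫ T.g.f p = 0 := by
        have := congrArg (· ≫ (CochainComplex.mappingCocone.fst q).f p) hx
        simpa [S, r] using this
      have h₂ : x ≫ (CochainComplex.mappingCocone.snd (T.g ≫ q)).v p (p + -1) rfl = 0 := by
        have := congrArg (· ≫ (CochainComplex.mappingCocone.snd q).v p (p + -1) rfl) hx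
        simpa [S, r] using this
      obtain ⟨U', π, hπ, y, hy⟩ := hex.exact_up_to_refinements (x ≫ (CochainComplex.mappingCocone.fst (T.g ≫ q)).f p)
        (by simpa using h₁)
      refine ⟨U', π, hπ, y, cocone_hom_ext (T.g ≫ q) ?_ ?_⟩
      · simpa [S, l] using hy
      · simpa [S, l] using congrArg (π ≫ ·) h₂
    · change Mono (l.f p)
      haveI : Mono (T.f.f p) := hT.map_of_exact (HomologicalComplex.eval A (ComplexShape.up ℤ) p) |>.mono_f
      exact mono_of_mono_fac (CochainComplex.mappingCocone.lift_f_fst_f (T.g ≫ q) T.f 0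
        (by rw [← Category.assoc, T.zero, zero_comp]; simp) p)
    · change Epi (r.f p)
      rw [epi_iff_surjective_up_to_refinements]
      intro U z
      haveI : Epi (T.g.f p) := hepi
      obtain ⟨U', π, hπ, y, hy⟩ := surjective_up_to_refinements_of_epi (T.g.f p)
        (z ≫ (CochainComplex.mappingCocone.fst q).f p)
      refine ⟨U', π, hπ, y ≫ (CochainComplex.mappingCocone.inl (T.g ≫ q)).v p p (add_zero p) +
        π ≫ z ≫ (CochainComplex.mappingCocone.snd q).v p (p + -1) rfl ≫
          (CochainComplex.mappingCocone.inr (T.g ≫ q)).1.v (p + -1) p (by lia), ?_⟩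
      refine cocone_hom_ext q ?_ ?_
      · simp [r, hy]
      · simp [r]
  haveI : QuasiIso l := ⟨fun m => by
    rw [quasiIsoAt_iff_isIso_homologyMap]
    have hz : ∀ k, IsZero (S.X₃.homology k) := fun k =>
      (exactAt_iff_isZero_homology _ _).1 (acyclic_cocone q k)
    haveI : Epi (homologyMap S.f m) :=
      (hS.homology_exact₂ m).epi_f ((hz m).eq_of_tgt _ _)
    haveI : Mono (homologyMap S.f m) :=
      (hS.homology_exact₁ (m - 1) m (by simp)).mono_g ((hz (m - 1)).eq_of_src _ _)
    exact isIso_of_mono_of_epi (homologyMap S.f m)⟩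
  exact ⟨_, l, inferInstance, fun k => hiso (coconeXIso _ k (k + -1) rfl).symm (hsum (hY k) (hZ' _))⟩

section Embed

variable (h1 : ∀ X : A, ∃ (Y : A) (i : X ⟶ Y), P Y ∧ Mono i)
  (hiso : ∀ {X Y : A}, (X ≅ Y) → P X → P Y) (hsum : ∀ {X Y : A}, P X → P Y → P (X ⊞ Y))

open CochainComplex CochainComplex.HomComplex in
include h1 hiso hsum in
theorem exists_mono_complex (X : CochainComplex A ℤ) :
    ∃ (E : CochainComplex A ℤ) (i : X ⟶ E), (∀ m, P (E.X m)) ∧ Mono i := by
  choose Y e hY he using h1
  let J : CochainComplex A ℤ := { X := fun m => Y (X.X m), d := fun _ _ => 0 }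
  let β : Cochain X J 0 := Cochain.ofHoms fun m => e (X.X m)
  let α : Cocycle X J 1 := Cocycle.mk (-δ 0 1 β) 2 rfl (by rw [δ_neg, δ_δ, neg_zero])
  let i : X ⟶ mappingCone (𝟙 J) := mappingCone.lift (𝟙 J) α β (by simp [α, Cocycle.mk_coe])
  refine ⟨mappingCone (𝟙 J), i, fun m => ?_, ?_⟩
  · exact hiso (homotopyCofiber.XIsoBiprod (𝟙 J) m (m + 1) rfl).symm (hsum (hY _) (hY _))
  · haveI : ∀ m, Mono (i.f m) := fun m => by
      haveI : Mono (e (X.X m)) := he _
      haveI : Mono (i.f m ≫ (mappingCone.snd (𝟙 J)).v m m (add_zero m)) := by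
        rwa [show i.f m ≫ (mappingCone.snd (𝟙 J)).v m m (add_zero m) = e (X.X m) by simp [i, β]]
      exact mono_of_mono (i.f m) ((mappingCone.snd (𝟙 J)).v m m (add_zero m))
    exact HomologicalComplex.mono_of_mono_f _ this

end Embed

/-- `N` has a resolution by the class of length `k` ending in `M`. -/
def Res (P : ObjectProperty A) (k : ℕ) (N M : A) : Prop :=
  ∃ (K : CochainComplex A ℕ) (ι : N ⟶ K.X 0) (w : ι ≫ K.d 0 1 = 0), Mono ι ∧
    (ShortComplex.mk ι (K.d 0 1) w).Exact ∧ (∀ i, 1 ≤ i → i ≤ k → K.ExactAt i) ∧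
    (∀ i, k < i → IsZero (K.X i)) ∧ (∀ i, i < k → P (K.X i)) ∧
    (1 ≤ k → Epi (K.d (k - 1) k)) ∧ (k = 0 → Epi ι) ∧ Nonempty (K.X k ≅ M)

theorem res_zero (M : A) : Res P 0 M M := by
  let K := (CochainComplex.single₀ A).obj M
  have w : (𝟙 M : M ⟶ K.X 0) ≫ K.d 0 1 = 0 := by simp [K]
  refine ⟨K, 𝟙 M, w, inferInstance, ?_, fun i h h' => by omega, fun i hi => ?_, fun i hi => by omega,
    fun h => by omega, fun _ => inferInstance, ⟨Iso.refl _⟩⟩
  · rw [ShortComplex.exact_iff_exact_up_to_refinements]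
    intro T t _
    exact ⟨T, 𝟙 T, inferInstance, t, (Category.id_comp t).trans (Category.comp_id t).symm⟩
  · exact HomologicalComplex.isZero_single_obj_X _ _ _ _ (by omega)

theorem res_succ {k : ℕ} {T : ShortComplex A} (hT : T.ShortExact) (hI : P T.X₂) {M : A}
    (h : Res P k T.X₃ M) : Res P (k + 1) T.X₁ M := by
  obtain ⟨K, ι, w, hι, hex, hexact, hzero, hP, hepi, hepi₀, ⟨eM⟩⟩ := h
  haveI := hT.mono_f
  haveI := hT.epi_g
  let K' := CochainComplex.augment K (T.g ≫ ι) (by rw [Category.assoc, w, comp_zero])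
  refine ⟨K', T.f, ?_, inferInstance, ?_, ?_, ?_, ?_, ?_, fun h => by omega, ⟨eM⟩⟩
  · change T.f ≫ T.g ≫ ι = 0
    rw [← Category.assoc, T.zero, zero_comp]
  · change (ShortComplex.mk T.f (T.g ≫ ι) _).Exact
    rw [ShortComplex.exact_iff_exact_up_to_refinements]
    intro U x hx
    refine hT.exact.exact_up_to_refinements x ?_
    rw [← cancel_mono ι, Category.assoc, zero_comp]
    exact hx
  · intro i hi hik
    obtain ⟨i, rfl⟩ : ∃ j, i = j + 1 := ⟨i - 1, by omega⟩
    rw [exactAt_iff' _ i (i + 1) (i + 2) (by simp) (by simp)]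
    rcases i with _ | i
    · change (ShortComplex.mk (T.g ≫ ι) (K.d 0 1) _).Exact
      rw [ShortComplex.exact_iff_exact_up_to_refinements]
      intro U x hx
      obtain ⟨U', π, hπ, y, hy⟩ := hex.exact_up_to_refinements x hx
      obtain ⟨U'', π', hπ', z, hz⟩ := surjective_up_to_refinements_of_epi T.g y
      refine ⟨U'', π' ≫ π, epi_comp _ _, z, ?_⟩
      dsimp at hy hz ⊢
      rw [Category.assoc, hy, ← Category.assoc, hz, Category.assoc]
    · have := hexact (i + 1) (by omega) (by omega)
      rw [exactAt_iff' _ i (i + 1) (i + 2) (by simp) (by simp)] at this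
      exact this
  · intro i hi
    obtain ⟨i, rfl⟩ : ∃ j, i = j + 1 := ⟨i - 1, by omega⟩
    exact hzero i (by omega)
  · intro i hi
    rcases i with _ | i
    · exact hI
    · exact hP i (by omega)
  · intro _
    rcases k with _ | k
    · haveI := hepi₀ rfl
      change Epi (T.g ≫ ι)
      infer_instance
    · exact hepi (by omega)

/-- The main theorem. -/
theorem exists_quasiIso_class (h1 : ∀ X : A, ∃ (Y : A) (i : X ⟶ Y), P Y ∧ Mono i)
    (h2 : ∀ S : ShortComplex A, S.ShortExact → P S.X₁ → (P S.X₂ ↔ P S.X₃))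
    (n : ℕ) (hn : 1 ≤ n)
    (h3 : ∀ K : CochainComplex A ℕ, (∀ i : ℕ, 1 ≤ i → i ≤ n → K.ExactAt i) → (∀ i : ℕ, n < i → IsZero (K.X i)) →
      Epi (K.d (n - 1) n) → (∀ i : ℕ, i < n → P (K.X i)) → P (K.X n))
    (X : CochainComplex A ℤ) :
    ∃ (I : CochainComplex A ℤ) (f : X ⟶ I), QuasiIso f ∧ ∀ k : ℤ, P (I.X k) := by
  have hiso : ∀ {X Y : A}, (X ≅ Y) → P X → P Y := fun e => prop_of_iso h1 h2 e
  have hsum : ∀ {X Y : A}, P X → P Y → P (X ⊞ Y) := fun a b => prop_biprod h1 h2 a b
  choose E emb hE hemb using fun X => exists_mono_complex (P := P) h1 hiso hsum X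
  let next : CochainComplex A ℤ → CochainComplex A ℤ := fun X => cokernel (emb X)
  let T : ∀ X, ShortComplex (CochainComplex A ℤ) := fun X =>
    ShortComplex.mk (emb X) (cokernel.π (emb X)) (cokernel.condition _)
  have hT : ∀ X, (T X).ShortExact := fun X =>
    { exact := ShortComplex.exact_cokernel _
      mono_f := hemb X }
  let C : ℕ → CochainComplex A ℤ := fun j => Nat.rec X (fun _ Y => next Y) j
  have hres : ∀ j, j ≤ n → ∀ m, Res P j ((C (n - j)).X m) ((C n).X m) := by
    intro j
    induction j with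
    | zero => exact fun _ m => res_zero _
    | succ j ih =>
      intro hj m
      have e : n - j = (n - (j + 1)) + 1 := by omega
      have h := ih (by omega) m
      rw [e] at h
      exact res_succ ((hT (C (n - (j + 1)))).map_of_exact (HomologicalComplex.eval A _ m)) (hE _ m) h
  have htop : ∀ m, P ((C n).X m) := fun m => by
    obtain ⟨K, ι, w, hι, hex, hexact, hzero, hP, hepi, -, ⟨eM⟩⟩ := hres n le_rfl m
    exact hiso eM (h3 K hexact hzero (hepi hn) hP)
  have hdown : ∀ j, j ≤ n → ∃ (I : CochainComplex A ℤ) (f : C (n - j) ⟶ I),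
      (HomologicalComplex.quasiIso A (ComplexShape.up ℤ)) f ∧ ∀ k, P (I.X k) := by
    intro j
    induction j with
    | zero => exact fun _ => ⟨_, 𝟙 _, MorphismProperty.id_mem _ _, htop⟩
    | succ j ih =>
      intro hj
      have e : n - j = (n - (j + 1)) + 1 := by omega
      have h := ih (by omega)
      rw [e] at h
      obtain ⟨I, f, hf, hI⟩ := h
      haveI : QuasiIso f := (HomologicalComplex.mem_quasiIso_iff f).1 hf
      obtain ⟨I', f', hf', hI'⟩ := exists_quasiIso_of_shortExact hiso hsum (hT (C (n - (j + 1)))) (hE _) f hI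
      exact ⟨I', f', (HomologicalComplex.mem_quasiIso_iff f').2 hf', hI'⟩
  have hX : C (n - n) = X := by rw [Nat.sub_self]; rfl
  rw [← hX]
  obtain ⟨I, f, hf, hI⟩ := hdown n le_rfl
  exact ⟨I, f, (HomologicalComplex.mem_quasiIso_iff f).1 hf, hI⟩

end Groth.Agent.AcycResLib
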