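import Groth.Agent.SpSeqLib.AcyclicComplex
import Groth.Agent.AcycResLib.Fractions
import Groth.Agent.AcycResLib.Resolution

/-!
# Unbounded derived functors of functors of finite cohomological dimension
-/

set_option autoImplicit false
set_option backward.isDefEq.respectTransparency false
set_option backward.isDefEq.respectTransparency.types false
set_option linter.style.haveILetI false
set_option linter.unusedSectionVars false

universe w w' v v' u u'

open CategoryTheory CategoryTheory.Limits CategoryTheory.Pretriangulated HomologicalComplex SpSeqLib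

namespace Groth.Agent.AcycResLib

section Cycles

variable {A : Type u} [Category.{v} A] [Abelian A] {ι : Type*} {c : ComplexShape ι}

/-- The short complex of cycles. -/
noncomputable def cyclesSC (M : HomologicalComplex A c) (i j : ι) : ShortComplex A :=
  ShortComplex.mk (M.iCycles i) (M.toCycles i j) (by
    rw [← cancel_mono (M.iCycles j), Category.assoc, toCycles_i, iCycles_d, zero_comp])

theorem cyclesSC_shortExact (M : HomologicalComplex A c) (i j : ι) (hi : c.prev j = i) (hj : c.next i = j)
    (hM : M.ExactAt j) : (cyclesSC M i j).ShortExact := by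
  haveI : Mono (cyclesSC M i j).f := inferInstanceAs (Mono (M.iCycles i))
  haveI : Epi (cyclesSC M i j).g :=
    ((ShortComplex.mk _ _ (M.toCycles_comp_homologyπ i j)).exact_of_g_is_cokernel
      (M.homologyIsCokernel i j hi)).epi_f (hM.isZero_homology.eq_of_tgt _ _)
  refine ⟨ShortComplex.exact_of_f_is_kernel _ (KernelFork.IsLimit.ofι _ _
    (fun x hx => M.liftCycles x j hj ?_) (fun x hx => ?_) (fun x hx m hm => ?_))⟩
  · exact ((congrArg (x ≫ ·) (M.toCycles_i i j)).symm.trans ((Category.assoc _ _ _).symm.trans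
      (hx =≫ M.iCycles j))).trans zero_comp
  · exact M.liftCycles_i _ _ _ _
  · exact (cancel_mono (M.iCycles i)).1 (hm.trans (M.liftCycles_i _ _ _ _).symm)

end Cycles

variable {A : Type u} [Category.{v} A] [Abelian A] [HasDerivedCategory.{w} A] [HasInjectiveResolutions A]
  {B : Type u'} [Category.{v'} B] [Abelian B]
  (F : A ⥤ B) [F.Additive] [PreservesFiniteLimits F] [EnoughInjectives A]

theorem isZero_of_shortExact₁ {T : ShortComplex A} (hT : T.ShortExact) (q : ℕ)
    (h₃ : IsZero ((phiSingle F q).obj T.X₃)) (h₂ : IsZero ((phiSingle F (q + 1 : ℕ)).obj T.X₂)) :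
    IsZero ((phiSingle F (q + 1 : ℕ)).obj T.X₁) :=
  ((phi F).homologySequence_exact₁ _ (singlePlusTriangle_distinguished hT) (q : ℤ) ((q + 1 : ℕ) : ℤ)
    (by simp)).isZero_of_both_zeros (h₃.eq_of_src _ _) (h₂.eq_of_tgt _ _)

theorem isZero_of_shortExact₂ {T : ShortComplex A} (hT : T.ShortExact) (q : ℕ)
    (h₁ : IsZero ((phiSingle F q).obj T.X₁)) (h₃ : IsZero ((phiSingle F q).obj T.X₃)) :
    IsZero ((phiSingle F q).obj T.X₂) :=
  ((phi F).homologySequence_exact₂ _ (singlePlusTriangle_distinguished hT) (q : ℤ)).isZero_of_both_zeros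
    (h₁.eq_of_src _ _) (h₃.eq_of_tgt _ _)

theorem isZero_of_shortExact₃ {T : ShortComplex A} (hT : T.ShortExact) (q : ℕ)
    (h₂ : IsZero ((phiSingle F q).obj T.X₂)) (h₁ : IsZero ((phiSingle F (q + 1 : ℕ)).obj T.X₁)) :
    IsZero ((phiSingle F q).obj T.X₃) :=
  ((phi F).homologySequence_exact₃ _ (singlePlusTriangle_distinguished hT) (q : ℤ) ((q + 1 : ℕ) : ℤ)
    (by simp)).isZero_of_both_zeros (h₂.eq_of_src _ _) (h₁.eq_of_tgt _ _)

variable (n : ℕ) (hn : ∀ X : A, IsZero ((F.rightDerived n).obj X))

include hn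

theorem isZero_phiSingle_of_le (q : ℕ) (hq : n ≤ q) (X : A) : IsZero ((phiSingle F q).obj X) := by
  induction q, hq using Nat.le_induction generalizing X with
  | base => exact (hn X).of_iso (nonempty_phiSingle_iso F X n).some
  | succ q hq ih =>
    exact isZero_of_shortExact₁ F (T := ShortComplex.mk (Injective.ι X) (cokernel.π _) (cokernel.condition _))
      { exact := ShortComplex.exact_cokernel _ } q (ih _)
      (isSAcyclic_of_injective F (Injective.under X) (q + 1) q.succ_pos)

theorem isSAcyclic_cycles_unbounded (M : CochainComplex A ℤ) (hM : M.Acyclic)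
    (hterms : ∀ m, IsSAcyclic F (M.X m)) (m : ℤ) : IsSAcyclic F (M.cycles m) := by
  have key : ∀ (k : ℕ) (q : ℕ) (j : ℤ), 0 < q → n ≤ q + k → IsZero ((phiSingle F q).obj (M.cycles j)) := by
    intro k
    induction k with
    | zero => exact fun q j _ h => isZero_phiSingle_of_le F n hn q h _
    | succ k ih =>
      intro q j hq h
      exact isZero_of_shortExact₃ F (cyclesSC_shortExact M (j - 1) j (by simp) (by simp) (hM j)) q
        (hterms (j - 1) q hq) (ih (q + 1) (j - 1) q.succ_pos (by omega))
  exact fun q hq => key n q m hq (by omega)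

theorem acyclic_map_unbounded (M : CochainComplex A ℤ) (hM : M.Acyclic)
    (hterms : ∀ m, IsSAcyclic F (M.X m)) : ((F.mapHomologicalComplex _).obj M).Acyclic := by
  intro m
  rw [exactAt_iff' _ (m - 1) m (m + 1) (by simp) (by simp), ShortComplex.exact_iff_exact_up_to_refinements]
  intro T x hx
  obtain ⟨l, hl⟩ := KernelFork.IsLimit.lift'
    (isLimitForkMapOfIsLimit' F _ (M.cyclesIsKernel m (m + 1) (by simp))) x hx
  have hl' : l ≫ F.map (M.iCycles m) = x := hl
  haveI : Epi (F.map (M.toCycles (m - 1) m)) :=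
    IsSAcyclic.epi_map F (cyclesSC_shortExact M (m - 1) m (by simp) (by simp) (hM m))
      (isSAcyclic_cycles_unbounded F n hn M hM hterms (m - 1))
  obtain ⟨T', π, hπ, y, hy⟩ := surjective_up_to_refinements_of_epi (F.map (M.toCycles (m - 1) m)) l
  refine ⟨T', π, hπ, y, ?_⟩
  refine ((congrArg (π ≫ ·) hl').symm.trans ((Category.assoc _ _ _).symm.trans
    (congrArg (· ≫ F.map (M.iCycles m)) hy))).trans ((Category.assoc _ _ _).trans ?_)
  exact congrArg (y ≫ ·) ((F.map_comp _ _).symm.trans (congrArg F.map (M.toCycles_i (m - 1) m)))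

theorem quasiIso_map_unbounded {K L : CochainComplex A ℤ} (i : K ⟶ L) [QuasiIso i]
    (hK : ∀ m, IsSAcyclic F (K.X m)) (hL : ∀ m, IsSAcyclic F (L.X m)) :
    QuasiIso ((F.mapHomologicalComplex _).map i) := by
  have hcone : (CochainComplex.mappingCone i).Acyclic := by
    rw [← HomotopyCategory.quotient_obj_mem_subcategoryAcyclic_iff_acyclic]
    refine ((HomotopyCategory.subcategoryAcyclic A).trW_iff_of_distinguished _
      (HomotopyCategory.mappingCone_triangleh_distinguished i)).1 ?_
    rw [← HomotopyCategory.quasiIso_eq_trW_subcategoryAcyclic]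
    exact (HomotopyCategory.quotient_map_mem_quasiIso_iff i).2 (by simpa using (inferInstance : QuasiIso i))
  have hterms : ∀ m, IsSAcyclic F ((CochainComplex.mappingCone i).X m) := fun m q hq =>
    ((IsSAcyclic.biprod F (hK (m + 1)) (hL m)) q hq).of_iso (Functor.mapIso _
      (homotopyCofiber.XIsoBiprod i m (m + 1) rfl))
  have h := acyclic_map_unbounded F n hn _ hcone hterms
  have h' : (CochainComplex.mappingCone ((F.mapHomologicalComplex _).map i)).Acyclic := fun m =>
    (h m).of_iso (CochainComplex.mappingCone.mapHomologicalComplexIso i F)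
  rw [← HomotopyCategory.quotient_obj_mem_subcategoryAcyclic_iff_acyclic] at h'
  have := ((HomotopyCategory.subcategoryAcyclic B).trW_iff_of_distinguished _
      (HomotopyCategory.mappingCone_triangleh_distinguished ((F.mapHomologicalComplex _).map i))).2 h'
  rw [← HomotopyCategory.quasiIso_eq_trW_subcategoryAcyclic] at this
  exact (HomologicalComplex.mem_quasiIso_iff _).1
    ((HomotopyCategory.quotient_map_mem_quasiIso_iff _).1 this)

theorem exists_quasiIso_acyclic (X : CochainComplex A ℤ) :
    ∃ (I : CochainComplex A ℤ) (f : X ⟶ I), QuasiIso f ∧ ∀ k : ℤ, IsSAcyclic F (I.X k) := by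
  refine exists_quasiIso_class (P := fun Z => IsSAcyclic F Z)
    (fun Z => ⟨Injective.under Z, Injective.ι Z, isSAcyclic_of_injective F _, inferInstance⟩)
    (fun S hS h₁ => ⟨fun h₂ => IsSAcyclic.of_shortExact F hS h₁ h₂,
      fun h₃ q hq => isZero_of_shortExact₂ F hS q (h₁ q hq) (h₃ q hq)⟩)
    (n + 1) (by omega) (fun K hex hzero _ hP => ?_) X
  have key : ∀ i, i ≤ n + 1 → ∀ q : ℕ, 0 < q → n ≤ q + i → IsZero ((phiSingle F q).obj (K.cycles i)) := by
    intro i
    induction i with
    | zero => exact fun _ q _ h => isZero_phiSingle_of_le F n hn q h _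
    | succ i ih =>
      intro hi q hq h
      exact isZero_of_shortExact₃ F (cyclesSC_shortExact K i (i + 1) (by simp) (by simp) (hex _ (by omega) hi)) q
        (hP i (by omega) q hq) (ih (by omega) (q + 1) q.succ_pos (by omega))
  intro q hq
  haveI := K.isIso_iCycles (n + 1) (n + 2) (by simp) ((hzero _ (by omega)).eq_of_tgt _ _)
  exact (key (n + 1) le_rfl q hq (by omega)).of_iso (Functor.mapIso _ (asIso (K.iCycles (n + 1))).symm)

section Derived

variable [HasDerivedCategory.{w'} B]

/-- The class of complexes with acyclic terms. -/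
abbrev AcyclicTerms (X : HomotopyCategory A (ComplexShape.up ℤ)) : Prop := ∀ m, IsSAcyclic F (X.as.X m)

theorem derived_data :
    (∀ X : HomotopyCategory A (ComplexShape.up ℤ), ∃ (I : HomotopyCategory A (ComplexShape.up ℤ)) (s : X ⟶ I),
      AcyclicTerms F I ∧ HomotopyCategory.quasiIso A (ComplexShape.up ℤ) s) ∧
    ∀ ⦃I I' : HomotopyCategory A (ComplexShape.up ℤ)⦄ (s : I ⟶ I'), AcyclicTerms F I → AcyclicTerms F I' →
      HomotopyCategory.quasiIso A (ComplexShape.up ℤ) s →
      IsIso ((F.mapHomotopyCategory (ComplexShape.up ℤ) ⋙ DerivedCategory.Qh).map s) := by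
  refine ⟨fun X => ?_, fun I I' s hI hI' hs => ?_⟩
  · obtain ⟨I, f, hf, hI⟩ := exists_quasiIso_acyclic F n hn X.as
    exact ⟨(HomotopyCategory.quotient _ _).obj I, (HomotopyCategory.quotient _ _).map f, hI,
      (HomotopyCategory.quotient_map_mem_quasiIso_iff f).2 ((HomologicalComplex.mem_quasiIso_iff f).2 hf)⟩
  · obtain ⟨K, rfl⟩ := HomotopyCategory.quotient_obj_surjective I
    obtain ⟨L, rfl⟩ := HomotopyCategory.quotient_obj_surjective I'
    obtain ⟨f, rfl⟩ := (HomotopyCategory.quotient A (ComplexShape.up ℤ)).map_surjective s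
    haveI : QuasiIso f :=
      (HomologicalComplex.mem_quasiIso_iff f).1 ((HomotopyCategory.quotient_map_mem_quasiIso_iff f).1 hs)
    have h := quasiIso_map_unbounded F n hn f hI hI'
    exact Localization.inverts DerivedCategory.Qh (HomotopyCategory.quasiIso B (ComplexShape.up ℤ)) _
      ((HomotopyCategory.quotient_map_mem_quasiIso_iff _).2 ((HomologicalComplex.mem_quasiIso_iff _).2 h))

theorem hasLeftCalculus :
    (HomotopyCategory.quasiIso A (ComplexShape.up ℤ)).HasLeftCalculusOfFractions := by
  rw [HomotopyCategory.quasiIso_eq_trW_subcategoryAcyclic]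
  infer_instance

theorem hasRightDerivedFunctor :
    (F.mapHomotopyCategory (ComplexShape.up ℤ) ⋙ DerivedCategory.Qh).HasRightDerivedFunctor
      (HomotopyCategory.quasiIso A (ComplexShape.up ℤ)) := by
  haveI := hasLeftCalculus F n hn
  haveI := hasPointwiseRightDerivedFunctor (HomotopyCategory.quasiIso A (ComplexShape.up ℤ))
    (F.mapHomotopyCategory (ComplexShape.up ℤ) ⋙ DerivedCategory.Qh) (AcyclicTerms F)
    (derived_data F n hn).1 (derived_data F n hn).2
  infer_instance

theorem isIso_unit
    [(F.mapHomotopyCategory (ComplexShape.up ℤ) ⋙ DerivedCategory.Qh).HasRightDerivedFunctor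
      (HomotopyCategory.quasiIso A (ComplexShape.up ℤ))]
    (K : CochainComplex A ℤ) (hK : ∀ (m : ℤ) (i : ℕ), 0 < i → IsZero ((F.rightDerived i).obj (K.X m))) :
    IsIso (((F.mapHomotopyCategory (ComplexShape.up ℤ) ⋙ DerivedCategory.Qh).totalRightDerivedUnit DerivedCategory.Qh
      (HomotopyCategory.quasiIso A (ComplexShape.up ℤ))).app ((HomotopyCategory.quotient A (ComplexShape.up ℤ)).obj K)) := by
  haveI := hasLeftCalculus F n hn
  exact isIso_totalRightDerivedUnit_app (HomotopyCategory.quasiIso A (ComplexShape.up ℤ)) DerivedCategory.Qh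
    (F.mapHomotopyCategory (ComplexShape.up ℤ) ⋙ DerivedCategory.Qh) (AcyclicTerms F)
    (derived_data F n hn).1 (derived_data F n hn).2 (fun m => (isSAcyclic_iff F (K.X m)).2 (hK m))

end Derived

omit hn in
theorem enoughInjectives_of_hasInjectiveResolutions (A : Type u) [Category.{v} A] [Abelian A]
    [HasInjectiveResolutions A] : EnoughInjectives A :=
  ⟨fun X => ⟨{ J := (injectiveResolution X).cocomplex.X 0
               f := (injectiveResolution X).ι.f 0
               mono := inferInstanceAs (Mono ((injectiveResolution X).ι.f 0)) }⟩⟩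

end Groth.Agent.AcycResLib
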