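import Groth.Agent.DerLib.RightRes
import Groth.Agent.DerLib.OpDual

/-!
# Bounded above complexes are resolved on the left by a class of objects covering every object
-/

set_option autoImplicit false
set_option backward.isDefEq.respectTransparency false
set_option backward.isDefEq.respectTransparency.types false
set_option linter.style.haveILetI false

universe v u

open CategoryTheory CategoryTheory.Limits HomologicalComplex Opposite

namespace Groth.Agent.AcycResLib

open DerLib.OpDual

variable {A : Type u} [Category.{v} A] [Abelian A] (P : A → Prop)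
  (hP0 : ∃ Z : A, Limits.IsZero Z ∧ P Z) (hP : ∀ X : A, ∃ (Y : A) (π : Y ⟶ X), P Y ∧ Epi π)

include hP0 hP

theorem exists_left_resolution (K : CochainComplex A ℤ) (a : ℤ) [K.IsStrictlyLE a] :
    ∃ (Q : CochainComplex A ℤ) (α : Q ⟶ K), Q.IsStrictlyLE a ∧ (∀ n, P (Q.X n)) ∧ (∀ n, Epi (α.f n)) ∧
      QuasiIso α := by
  haveI : CochainComplex.IsStrictlyGE (opC K) (-a) := by
    rw [CochainComplex.isStrictlyGE_iff]
    intro i hi
    exact (CochainComplex.isZero_of_isStrictlyLE K a (-i) (by omega)).op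
  obtain ⟨L, α, hL, hPL, hα, hq⟩ := DerLib.RightRes.exists_resolution_int (A := Aᵒᵖ)
    (I := fun X => P X.unop) (fun X => by
      obtain ⟨Y, π, hY, hπ⟩ := hP X.unop
      exact ⟨op Y, π.op, hY, inferInstance⟩)
    (by
      obtain ⟨Z, hZ, hZP⟩ := hP0
      exact ⟨op Z, hZ.op, hZP⟩) (opC K) (-a)
  refine ⟨unopC L, unopMap α ≫ (backIso K).hom, ?_, fun n => hPL (-n), fun n => ?_, ?_⟩
  · rw [CochainComplex.isStrictlyLE_iff]
    intro i hi
    exact (CochainComplex.isZero_of_isStrictlyGE L (-a) (-i) (by omega)).unop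
  · haveI := hα (-n)
    haveI : Epi ((unopMap α).f n) := inferInstanceAs (Epi (α.f (-n)).unop)
    rw [HomologicalComplex.comp_f]
    infer_instance
  · haveI := quasiIso_unopMap α
    infer_instance

theorem exists_left_resolution_of_acyclic_above (K : CochainComplex A ℤ) (a : ℤ)
    (hK : ∀ n : ℤ, a < n → Limits.IsZero (K.homology n)) :
    ∃ (Q : CochainComplex A ℤ) (α : Q ⟶ K), Q.IsStrictlyLE a ∧ (∀ n, P (Q.X n)) ∧ QuasiIso α := by
  haveI : K.IsLE a := by
    rw [CochainComplex.isLE_iff]
    intro n hn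
    exact (exactAt_iff_isZero_homology _ _).2 (hK n hn)
  obtain ⟨Q, α, hQ, hPQ, -, hq⟩ := exists_left_resolution P hP0 hP (K.truncLE a) a
  exact ⟨Q, α ≫ K.ιTruncLE a, hQ, hPQ, inferInstance⟩

end Groth.Agent.AcycResLib
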